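/-
The centraliser of the image of a transvection in `PSp(4,3)` is `3^{1+2} : SL(2,3)`, and the
transvection is 3-central.
-/
import Cfsg.Prelude.Def_Classical
import Cfsg.Agent.Lib.PSpThree.Model
import Cfsg.Agent.Lib.GLOrder.Symplectic

set_option autoImplicit false

namespace Cfsg.Agent.PSpThree

open Matrix H3

abbrev I4 := Fin 2 ⊕ Fin 2

abbrev Sp4 := Matrix.symplecticGroup (Fin 2) K

/-- The matrix of an element of the Heisenberg group. -/
def hMat (h : H3) : Matrix I4 I4 K :=
  Matrix.fromBlocks !![1, -h.j; 0, 1] !![h.a, h.i; h.i, 0] 0 !![1, 0; h.j, 1]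

/-- The matrix of an element of `SL(2,3)` acting on the hyperbolic plane orthogonal to the fixed vector. -/
def dMat (A : SL23) : Matrix I4 I4 K :=
  Matrix.fromBlocks !![1, 0; 0, A.1 0 0] !![0, 0; 0, A.1 0 1] !![0, 0; 0, A.1 1 0] !![1, 0; 0, A.1 1 1]

theorem hMat_mem (h : H3) : hMat h ∈ Matrix.symplecticGroup (Fin 2) K := by
  rw [SymplecticGroup.mem_iff]
  ext i j
  rcases i with i | i <;> rcases j with j | j <;> fin_cases i <;> fin_cases j <;>
    simp [hMat, Matrix.J, Matrix.mul_apply, Fin.sum_univ_two] <;> ring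

theorem dMat_mem (A : SL23) : dMat A ∈ Matrix.symplecticGroup (Fin 2) K := by
  have h := A.2
  rw [Matrix.det_fin_two] at h
  rw [SymplecticGroup.mem_iff]
  ext i j
  rcases i with i | i <;> rcases j with j | j <;> fin_cases i <;> fin_cases j <;>
    simp [dMat, Matrix.J, Matrix.mul_apply, Fin.sum_univ_two] <;>
    first
      | ring1
      | linear_combination h
      | linear_combination -h

/-- The Heisenberg group inside `Sp(4,3)`. -/
def hHom : H3 →* Sp4 where
  toFun h := ⟨hMat h, hMat_mem h⟩
  map_one' := Subtype.ext (by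
    ext i j
    rcases i with i | i <;> rcases j with j | j <;> fin_cases i <;> fin_cases j <;>
      simp [hMat, one_def])
  map_mul' g h := Subtype.ext (by
    ext i j
    rcases i with i | i <;> rcases j with j | j <;> fin_cases i <;> fin_cases j <;>
      simp [hMat, mul_def, Matrix.mul_apply, Fin.sum_univ_two] <;> ring)

/-- `SL(2,3)` inside `Sp(4,3)`. -/
def dHom : SL23 →* Sp4 where
  toFun A := ⟨dMat A, dMat_mem A⟩
  map_one' := Subtype.ext (by
    ext i j
    rcases i with i | i <;> rcases j with j | j <;> fin_cases i <;> fin_cases j <;>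
      simp [dMat])
  map_mul' A B := Subtype.ext (by
    ext i j
    rcases i with i | i <;> rcases j with j | j <;> fin_cases i <;> fin_cases j <;>
      simp [dMat, Matrix.mul_apply, Fin.sum_univ_two])

theorem dHom_mul_hHom (A : SL23) (h : H3) : dHom A * hHom h = hHom (act A h) * dHom A := by
  have hd := A.2
  rw [Matrix.det_fin_two] at hd
  apply Subtype.ext
  show dMat A * hMat h = hMat (act A h) * dMat A
  ext i j
  rcases i with i | i <;> rcases j with j | j <;> fin_cases i <;> fin_cases j <;>
    simp [dMat, hMat, act_apply, Matrix.mul_apply, Fin.sum_univ_two] <;>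
    first
      | ring1
      | linear_combination h.i * hd
      | linear_combination -h.i * hd
      | linear_combination h.j * hd
      | linear_combination -h.j * hd

/-- The homomorphism from `3^{1+2} : SL(2,3)`. -/
def toSp : SemidirectProduct H3 SL23 act →* Sp4 :=
  SemidirectProduct.lift hHom dHom fun A => by
    ext h : 1
    show hHom (act A h) = dHom A * hHom h * (dHom A)⁻¹
    rw [eq_mul_inv_iff_mul_eq, dHom_mul_hHom]

theorem toSp_apply (x : SemidirectProduct H3 SL23 act) :
    (toSp x).1 = hMat x.left * dMat x.right := rfl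

theorem toSp_injective_aux (x : SemidirectProduct H3 SL23 act)
    (h : (toSp x).1 = 1 ∨ (toSp x).1 = -1) : x = 1 := by
  rw [toSp_apply] at h
  have h1 : hMat x.left * dMat x.right = 1 := by
    rcases h with h | h
    · exact h
    · have e := congrFun (congrFun h (.inl 0)) (.inl 0)
      simp [hMat, dMat, Matrix.mul_apply, Fin.sum_univ_two] at e
      exact absurd e (by decide)
  have e : ∀ i j, (hMat x.left * dMat x.right) i j = (1 : Matrix I4 I4 K) i j := fun i j => by rw [h1]
  have a0 := e (.inl 0) (.inr 0)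
  have i0 := e (.inl 1) (.inr 0)
  have j0 := e (.inr 1) (.inr 0)
  have e00 := e (.inl 1) (.inl 1)
  have e01 := e (.inl 1) (.inr 1)
  have e10 := e (.inr 1) (.inl 1)
  have e11 := e (.inr 1) (.inr 1)
  simp [hMat, dMat, Matrix.mul_apply, Fin.sum_univ_two] at a0 i0 j0 e00 e01 e10 e11
  refine SemidirectProduct.ext (H3.ext a0 i0 j0) (slEq ?_ ?_ ?_ ?_) <;>
    simp [e00, e01, e10, e11]

/-- The transvection. -/
def transv : Sp4 := toSp (SemidirectProduct.inl cz)

/-- An element commuting with the transvection modulo the centre is a sign times a model element. -/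
theorem exists_preimage {g : Sp4} (h : g.1 * transv.1 = transv.1 * g.1) :
    ∃ x, g.1 = (toSp x).1 ∨ g.1 = -(toSp x).1 := by
  suffices key : ∀ G : Matrix I4 I4 K, G ∈ Matrix.symplecticGroup (Fin 2) K → G * transv.1 = transv.1 * G →
      G (.inl 0) (.inl 0) = 1 → ∃ x, G = (toSp x).1 by
    have hT : transv.1 = hMat cz := by
      rw [transv, toSp_apply]
      show hMat cz * dMat 1 = hMat cz
      have : dMat 1 = 1 := congrArg Subtype.val (map_one dHom)
      rw [this, mul_one]
    have e1 := congrFun (congrFun h (.inl 0)) (.inr 0)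
    rw [hT] at e1
    simp [hMat, cz, Matrix.mul_apply, Fin.sum_univ_two] at e1
    have h00 : g.1 (.inl 0) (.inl 0) * g.1 (.inr 0) (.inr 0) = 1 := by
      have hs := congrFun (congrFun (SymplecticGroup.mem_iff.1 g.2) (.inl 0)) (.inr 0)
      have z1 := congrFun (congrFun h (.inl 0)) (.inl 0)
      have z2 := congrFun (congrFun h (.inl 0)) (.inl 1)
      have z3 := congrFun (congrFun h (.inl 0)) (.inr 1)
      rw [hT] at z1 z2 z3
      simp [hMat, cz, Matrix.mul_apply, Fin.sum_univ_two] at z1 z2 z3
      simp [Matrix.J, Matrix.mul_apply, Fin.sum_univ_two, z1, z2, z3] at hs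
      linear_combination hs
    have e1' : g.1 (.inl 0) (.inl 0) = g.1 (.inr 0) (.inr 0) := by linear_combination e1
    rw [← e1'] at h00
    rcases mul_self_eq_one_iff.1 h00 with h1 | h1
    · obtain ⟨x, hx⟩ := key g.1 g.2 h h1
      exact ⟨x, Or.inl hx⟩
    · obtain ⟨x, hx⟩ := key (-g.1) (SymplecticGroup.mem_iff.2 (by
          rw [Matrix.transpose_neg, Matrix.neg_mul, Matrix.neg_mul, Matrix.mul_neg, neg_neg,
            SymplecticGroup.mem_iff.1 g.2]))
        (by rw [Matrix.neg_mul, Matrix.mul_neg, h]) (by rw [Matrix.neg_apply, h1, neg_neg])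
      exact ⟨x, Or.inr (by rw [← hx, neg_neg])⟩
  intro G hG hc h00
  have hT : transv.1 = hMat cz := by
    rw [transv, toSp_apply]
    show hMat cz * dMat 1 = hMat cz
    have : dMat 1 = 1 := congrArg Subtype.val (map_one dHom)
    rw [this, mul_one]
  rw [hT] at hc
  have z1 := congrFun (congrFun hc (.inl 0)) (.inl 0)
  have z2 := congrFun (congrFun hc (.inl 0)) (.inl 1)
  have z3 := congrFun (congrFun hc (.inl 0)) (.inr 1)
  have z4 := congrFun (congrFun hc (.inl 0)) (.inr 0)
  have c1 := congrFun (congrFun hc (.inl 1)) (.inr 0)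
  have c2 := congrFun (congrFun hc (.inr 0)) (.inr 0)
  have c3 := congrFun (congrFun hc (.inr 1)) (.inr 0)
  simp [hMat, cz, Matrix.mul_apply, Fin.sum_univ_two] at z1 z2 z3 z4 c1 c2 c3
  have z5 : G (.inr 0) (.inr 0) = 1 := by linear_combination h00 - z4
  have hsJ := SymplecticGroup.mem_iff'.1 hG
  have s1 := congrFun (congrFun hsJ (.inl 1)) (.inr 1)
  have s2 := congrFun (congrFun hsJ (.inr 0)) (.inl 1)
  have s3 := congrFun (congrFun hsJ (.inr 0)) (.inr 1)
  simp [Matrix.J, Matrix.mul_apply, Fin.sum_univ_two, h00, z5, z1, z2, z3, c1, c2, c3] at s1 s2 s3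
  let A : SL23 := ⟨!![G (.inl 1) (.inl 1), G (.inl 1) (.inr 1); G (.inr 1) (.inl 1), G (.inr 1) (.inr 1)], by
    rw [Matrix.det_fin_two]
    simp
    linear_combination -s1⟩
  refine ⟨⟨⟨G (.inl 0) (.inr 0), G (.inl 1) (.inr 0), G (.inr 1) (.inr 0)⟩, A⟩, ?_⟩
  rw [toSp_apply]
  ext i j
  rcases i with i | i <;> rcases j with j | j <;> fin_cases i <;> fin_cases j <;>
    simp [A, hMat, dMat, Matrix.mul_apply, Fin.sum_univ_two, h00, z5, z1, z2, z3, c1, c2, c3] <;>
    first
      | ring1
      | linear_combination s2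
      | linear_combination -s2
      | linear_combination s3
      | linear_combination -s3

theorem card_Sp4 : Nat.card Sp4 = 51840 := by
  rw [GLOrder.card_Sp]
  simp [Finset.prod_range_succ]

theorem card_model : Nat.card (SemidirectProduct H3 SL23 act) = 648 := by
  rw [SemidirectProduct.card, card_H3, card_SL23]

end Cfsg.Agent.PSpThree
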